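import Mathlib
import Cfsg.Agent.OddHalf.D6.Six.TF
set_option linter.all false

-- merged: Cfsg.Agent.OddHalf.D6.SixU.Perms
section

/-!
# ODD D6, `q = 9`, case C3a (B): permutations of degree six (helper680)

`pa = (01)`, `pe = (02)(13)`, `pf = (45)`, `pz = (01)(23) = [pa, pe]`, `ph = pf pz`, `pr = (012)`, `ps = (024)(135)`.
`theta` is the outer automorphism of `S6` of order two with `pa ↔ pe ph`, `pe ↔ pa pf`, `pf ↔ ph`, `pr ↔ ps`.
-/

set_option autoImplicit false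

namespace Cfsg.Agent.OddHalf.D6.SixU

open Equiv

/-- permutations of degree six -/
abbrev P6 := Perm (Fin 6)

def pa : P6 := swap 0 1
def pe : P6 := swap 0 2 * swap 1 3
def pf : P6 := swap 4 5
def pz : P6 := swap 0 1 * swap 2 3
def ph : P6 := swap 0 1 * swap 2 3 * swap 4 5
/-- `(012)` -/
def pr : P6 := swap 0 1 * swap 1 2
/-- `(024)(135)` -/
def ps : P6 := swap 0 2 * swap 2 4 * (swap 1 3 * swap 3 5)

/-- the images of the transpositions under the outer automorphism -/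
def syn (i j : Fin 6) : P6 :=
  (![![1, swap 0 3 * swap 1 2 * swap 4 5, swap 0 5 * swap 1 4 * swap 2 3, swap 0 1 * swap 2 4 * swap 3 5,
      swap 0 4 * swap 1 3 * swap 2 5, swap 0 2 * swap 1 5 * swap 3 4],
    ![swap 0 3 * swap 1 2 * swap 4 5, 1, swap 0 1 * swap 2 5 * swap 3 4, swap 0 4 * swap 1 5 * swap 2 3,
      swap 0 2 * swap 1 4 * swap 3 5, swap 0 5 * swap 1 3 * swap 2 4],
    ![swap 0 5 * swap 1 4 * swap 2 3, swap 0 1 * swap 2 5 * swap 3 4, 1, swap 0 2 * swap 1 3 * swap 4 5,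
      swap 0 3 * swap 1 5 * swap 2 4, swap 0 4 * swap 1 2 * swap 3 5],
    ![swap 0 1 * swap 2 4 * swap 3 5, swap 0 4 * swap 1 5 * swap 2 3, swap 0 2 * swap 1 3 * swap 4 5, 1,
      swap 0 5 * swap 1 2 * swap 3 4, swap 0 3 * swap 1 4 * swap 2 5],
    ![swap 0 4 * swap 1 3 * swap 2 5, swap 0 2 * swap 1 4 * swap 3 5, swap 0 3 * swap 1 5 * swap 2 4,
      swap 0 5 * swap 1 2 * swap 3 4, 1, swap 0 1 * swap 2 3 * swap 4 5],
    ![swap 0 2 * swap 1 5 * swap 3 4, swap 0 5 * swap 1 3 * swap 2 4, swap 0 4 * swap 1 2 * swap 3 5,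
      swap 0 3 * swap 1 4 * swap 2 5, swap 0 1 * swap 2 3 * swap 4 5, 1]] : Fin 6 → Fin 6 → P6) i j

/-- `v` acts on the indices of the table as `u` acts by conjugation -/
def Rel (u v : P6) : Prop := ∀ i j, v * syn i j * v⁻¹ = syn (u i) (u j)

theorem rel_swap : ∀ k l : Fin 6, k ≠ l → ∀ i j, syn k l * syn i j * (syn k l)⁻¹ = syn (swap k l i) (swap k l j) := by
  decide +kernel

theorem Rel.mul {u v u' v' : P6} (h : Rel u v) (h' : Rel u' v') : Rel (u * u') (v * v') := by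
  intro i j
  calc v * v' * syn i j * (v * v')⁻¹ = v * (v' * syn i j * v'⁻¹) * v⁻¹ := by group
    _ = syn ((u * u') i) ((u * u') j) := by rw [h', h]; rfl

theorem rel_one : Rel 1 1 := by
  intro i j
  simp

theorem exists_rel (u : P6) : ∃ v, Rel u v := by
  induction u using Equiv.Perm.swap_induction_on with
  | one => exact ⟨1, rel_one⟩
  | swap_mul u x y hxy ih =>
    obtain ⟨v, hv⟩ := ih
    exact ⟨syn x y * v, Rel.mul (rel_swap x y hxy) hv⟩

theorem rel_one_aux : ∀ v : P6, v * syn 0 1 * v⁻¹ = syn 0 1 → v * syn 0 2 * v⁻¹ = syn 0 2 →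
    v * syn 0 3 * v⁻¹ = syn 0 3 → v * syn 0 4 * v⁻¹ = syn 0 4 → v = 1 := by
  decide +kernel

theorem rel_one_right {v : P6} (h : Rel 1 v) : v = 1 :=
  rel_one_aux v (h 0 1) (h 0 2) (h 0 3) (h 0 4)

theorem Rel.inv {u v : P6} (h : Rel u v) : Rel u⁻¹ v⁻¹ := by
  intro i j
  have h1 := h (u⁻¹ i) (u⁻¹ j)
  have e1 : u (u⁻¹ i) = i := u.apply_symm_apply i
  have e2 : u (u⁻¹ j) = j := u.apply_symm_apply j
  rw [e1, e2] at h1
  rw [← h1]
  group

theorem Rel.unique {u v w : P6} (h : Rel u v) (h' : Rel u w) : v = w := by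
  have h1 := Rel.mul h h'.inv
  rw [mul_inv_cancel] at h1
  exact mul_inv_eq_one.1 (rel_one_right h1)

/-- the outer automorphism (as a homomorphism) -/
noncomputable def theta : P6 →* P6 where
  toFun u := (exists_rel u).choose
  map_one' := (exists_rel 1).choose_spec.unique rel_one
  map_mul' u v := (exists_rel (u * v)).choose_spec.unique
    (Rel.mul (exists_rel u).choose_spec (exists_rel v).choose_spec)

theorem theta_spec (u : P6) : Rel u (theta u) := (exists_rel u).choose_spec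

theorem theta_eq {u v : P6} (h : Rel u v) : theta u = v := (theta_spec u).unique h

theorem theta_swap {i j : Fin 6} (h : i ≠ j) : theta (swap i j) = syn i j := theta_eq (rel_swap i j h)

theorem theta_pa : theta pa = pe * ph := by
  rw [pa, theta_swap (by decide)]; decide +kernel

theorem theta_pf : theta pf = ph := by
  rw [pf, theta_swap (by decide)]; decide +kernel

theorem theta_pe : theta pe = pa * pf := by
  rw [pe, map_mul, theta_swap (by decide), theta_swap (by decide)]; decide +kernel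

theorem theta_pz : theta pz = pz := by
  rw [pz, map_mul, theta_swap (by decide), theta_swap (by decide)]; decide +kernel

theorem theta_ph : theta ph = pf := by
  rw [ph, map_mul, map_mul, theta_swap (by decide), theta_swap (by decide), theta_swap (by decide)]; decide +kernel

theorem theta_pr : theta pr = ps := by
  rw [pr, map_mul, theta_swap (by decide), theta_swap (by decide)]; decide +kernel

theorem theta_ps : theta ps = pr := by
  rw [ps, map_mul, map_mul, map_mul, theta_swap (by decide), theta_swap (by decide), theta_swap (by decide),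
    theta_swap (by decide)]; decide +kernel

theorem rel_syn : ∀ k l : Fin 6, k ≠ l → ∀ i j, swap k l * syn i j * (swap k l)⁻¹ = syn (syn k l i) (syn k l j) := by
  decide +kernel

theorem theta_theta (u : P6) : theta (theta u) = u := by
  induction u using Equiv.Perm.swap_induction_on with
  | one => rw [map_one, map_one]
  | swap_mul u x y hxy ih =>
    rw [map_mul, map_mul, ih, theta_swap hxy, theta_eq (rel_syn x y hxy)]

theorem theta_inj : Function.Injective theta := fun u v h => by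
  rw [← theta_theta u, h, theta_theta]

theorem theta_surj : Function.Surjective theta := fun u => ⟨theta u, theta_theta u⟩

end Cfsg.Agent.OddHalf.D6.SixU

end

-- merged: Cfsg.Agent.OddHalf.D6.SixU.Frame
section

/-!
# ODD D6, `q = 9`, case C3a (B): the frame (helper680)

`SixB x φ`: `C_G(x) = ⟨x⟩ × φ(S6)`, `x φ(u) ∈ x^G`, `φ(u) ∉ x^G` for all involutions `u` of `S6`.
-/

set_option autoImplicit false

namespace Cfsg.Agent.OddHalf.D6.SixU

open Subgroup Equiv

variable {G : Type*} [Group G]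

/-- the situation (B) of C3a -/
structure SixB (x : G) (φ : P6 →* G) : Prop where
  xx : x * x = 1
  inj : Function.Injective φ
  comm : ∀ a, x * φ a = φ a * x
  cent : ∀ g, g * x = x * g → (∃ a, g = φ a) ∨ ∃ a, g = x * φ a
  ne : ∀ a, φ a ≠ x
  fus : ∀ u, u * u = 1 → u ≠ 1 → IsConj x (x * φ u)
  nfus : ∀ u, u * u = 1 → u ≠ 1 → ¬ IsConj x (φ u)

namespace SixB

variable {x : G} {φ : P6 →* G}

theorem x1 (H : SixB x φ) : x ≠ 1 := fun h => H.ne 1 (by rw [map_one, h])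

theorem x_inv (H : SixB x φ) : x⁻¹ = x := inv_eq_of_mul_eq_one_left H.xx

theorem comm' (H : SixB x φ) (a : P6) : φ a * x = x * φ a := (H.comm a).symm

theorem xne (H : SixB x φ) (a b : P6) : φ a ≠ x * φ b := by
  intro e
  apply H.ne (a * b⁻¹)
  rw [map_mul, map_inv, e, mul_assoc, mul_inv_cancel, mul_one]

theorem cases (H : SixB x φ) {g : G} (hg : g * x = x * g) : ∃ u : P6, g = φ u ∨ g = x * φ u := by
  rcases H.cent g hg with ⟨a, ha⟩ | ⟨a, ha⟩
  · exact ⟨a, Or.inl ha⟩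
  · exact ⟨a, Or.inr ha⟩

theorem phi_eq_one (H : SixB x φ) {a : P6} (e : φ a = 1) : a = 1 := H.inj (e.trans (map_one φ).symm)

theorem not_isConj_one (H : SixB x φ) : ¬ IsConj x 1 := fun h => H.x1 (isConj_one_right.1 h.symm)

/-- transport by conjugation -/
theorem conj (H : SixB x φ) (g : G) : SixB (g * x * g⁻¹) ((MulAut.conj g).toMonoidHom.comp φ) where
  xx := by
    calc g * x * g⁻¹ * (g * x * g⁻¹) = g * (x * x) * g⁻¹ := by group
      _ = 1 := by rw [H.xx]; group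
  inj := (MulAut.conj g).injective.comp H.inj
  comm := by
    intro a
    show g * x * g⁻¹ * (g * φ a * g⁻¹) = g * φ a * g⁻¹ * (g * x * g⁻¹)
    calc g * x * g⁻¹ * (g * φ a * g⁻¹) = g * (x * φ a) * g⁻¹ := by group
      _ = g * (φ a * x) * g⁻¹ := by rw [H.comm a]
      _ = g * φ a * g⁻¹ * (g * x * g⁻¹) := by group
  cent := by
    intro k hk
    have h1 : (g⁻¹ * k * g) * x = x * (g⁻¹ * k * g) := by
      calc (g⁻¹ * k * g) * x = g⁻¹ * (k * (g * x * g⁻¹)) * g := by group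
        _ = g⁻¹ * (g * x * g⁻¹ * k) * g := by rw [hk]
        _ = x * (g⁻¹ * k * g) := by group
    rcases H.cent _ h1 with ⟨a, ha⟩ | ⟨a, ha⟩
    · left
      refine ⟨a, ?_⟩
      show k = g * φ a * g⁻¹
      rw [← ha]; group
    · right
      refine ⟨a, ?_⟩
      show k = g * x * g⁻¹ * (g * φ a * g⁻¹)
      calc k = g * (g⁻¹ * k * g) * g⁻¹ := by group
        _ = g * x * g⁻¹ * (g * φ a * g⁻¹) := by rw [ha]; group
  ne := by
    intro a e
    apply H.ne a
    have e' : g * φ a * g⁻¹ = g * x * g⁻¹ := e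
    exact mul_left_cancel (mul_right_cancel e')
  fus := by
    intro u h1 h2
    have h3 : g * x * g⁻¹ * ((MulAut.conj g).toMonoidHom.comp φ) u = g * (x * φ u) * g⁻¹ := by
      show g * x * g⁻¹ * (g * φ u * g⁻¹) = _
      group
    rw [h3]
    exact (isConj_iff.2 ⟨g⁻¹, by group⟩ : IsConj (g * x * g⁻¹) x).trans
      ((H.fus u h1 h2).trans (isConj_iff.2 ⟨g, rfl⟩))
  nfus := by
    intro u h1 h2 h3
    apply H.nfus u h1 h2
    have h4 : IsConj (g * x * g⁻¹) (g * φ u * g⁻¹) := h3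
    exact (isConj_iff.2 ⟨g, rfl⟩ : IsConj x (g * x * g⁻¹)).trans
      (h4.trans (isConj_iff.2 ⟨g⁻¹, by group⟩))

/-- the duality -/
theorem dual (H : SixB x φ) : SixB x (φ.comp theta) where
  xx := H.xx
  inj := H.inj.comp theta_inj
  comm := fun a => H.comm _
  cent := by
    intro g hg
    rcases H.cent g hg with ⟨a, ha⟩ | ⟨a, ha⟩
    · left
      obtain ⟨b, hb⟩ := theta_surj a
      exact ⟨b, by rw [MonoidHom.comp_apply, hb, ha]⟩
    · right
      obtain ⟨b, hb⟩ := theta_surj a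
      exact ⟨b, by rw [MonoidHom.comp_apply, hb, ha]⟩
  ne := fun a => H.ne _
  fus := by
    intro u h1 h2
    refine H.fus _ ?_ ?_
    · rw [← map_mul, h1, map_one]
    · intro h
      exact h2 (theta_inj (by rw [h, map_one]))
  nfus := by
    intro u h1 h2
    refine H.nfus _ ?_ ?_
    · rw [← map_mul, h1, map_one]
    · intro h
      exact h2 (theta_inj (by rw [h, map_one]))

/-- the clean rule at `x` -/
theorem clean_x (H : SixB x φ) {v : G} (hv : v * v = 1) (h1 : v ≠ 1) (hvx : v ≠ x) (hc : v * x = x * v) :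
    IsConj x v ↔ ¬ IsConj x (x * v) := by
  obtain ⟨u, hu | hu⟩ := H.cases hc
  · have h2 : u * u = 1 := H.phi_eq_one (by rw [map_mul, ← hu, hv])
    have h3 : u ≠ 1 := fun h => h1 (by rw [hu, h, map_one])
    rw [hu]
    exact ⟨fun h => absurd h (H.nfus u h2 h3), fun h => absurd (H.fus u h2 h3) h⟩
  · have h2 : u * u = 1 := by
      apply H.phi_eq_one
      rw [map_mul]
      calc φ u * φ u = (x * x) * φ u * φ u := by rw [H.xx, one_mul]
        _ = x * (x * φ u) * φ u := by group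
        _ = x * (φ u * x) * φ u := by rw [H.comm u]
        _ = x * φ u * (x * φ u) := by group
        _ = 1 := by rw [← hu, hv]
    have h3 : u ≠ 1 := fun h => hvx (by rw [hu, h, map_one, mul_one])
    rw [hu, ← mul_assoc, H.xx, one_mul]
    exact ⟨fun _ => H.nfus u h2 h3, fun _ => H.fus u h2 h3⟩

/-- THE CLEAN RULE: `d ∈ D`, `v ≠ d` an involution commuting with `d`: exactly one of `v`, `d v` is in `D` -/
theorem clean (H : SixB x φ) {d v : G} (hd : IsConj x d) (hv : v * v = 1) (h1 : v ≠ 1) (hvd : v ≠ d)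
    (hc : v * d = d * v) : IsConj x v ↔ ¬ IsConj x (d * v) := by
  obtain ⟨g, rfl⟩ := isConj_iff.1 hd
  have h2 := (H.conj g).clean_x hv h1 hvd hc
  have h3 : ∀ w, IsConj (g * x * g⁻¹) w ↔ IsConj x w := fun w =>
    ⟨fun h => hd.trans h, fun h => hd.symm.trans h⟩
  rwa [h3, h3] at h2

/-- `C_G(x) ≃ {1, x} × S6` -/
noncomputable def equivC (H : SixB x φ) : Bool × P6 ≃ centralizer ({x} : Set G) :=
  Equiv.ofBijective (fun p => ⟨(if p.1 then x else 1) * φ p.2, by
    rw [mem_centralizer_singleton_iff]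
    split_ifs
    · rw [mul_assoc, H.comm' p.2]
    · rw [one_mul, H.comm]⟩)
    ⟨by
      rintro ⟨b, u⟩ ⟨b', u'⟩ h
      have h' : (if b then x else 1) * φ u = (if b' then x else 1) * φ u' := congrArg Subtype.val h
      rcases b <;> rcases b'
      · simp only [Bool.false_eq_true, if_false, one_mul] at h'
        rw [H.inj h']
      · simp only [Bool.false_eq_true, if_false, one_mul, if_true] at h'
        exact absurd h' (H.xne _ _)
      · simp only [Bool.false_eq_true, if_false, one_mul, if_true] at h'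
        exact absurd h'.symm (H.xne _ _)
      · simp only [if_true] at h'
        rw [H.inj (mul_left_cancel h')], by
      rintro ⟨g, hg⟩
      rcases H.cases (mem_centralizer_singleton_iff.1 hg) with ⟨u, hu | hu⟩
      · exact ⟨(false, u), Subtype.ext (by simp [hu])⟩
      · exact ⟨(true, u), Subtype.ext (by simp [hu])⟩⟩

theorem card_C (H : SixB x φ) : Nat.card (centralizer ({x} : Set G)) = 1440 := by
  rw [← Nat.card_congr H.equivC, Nat.card_prod, Nat.card_eq_fintype_card, Nat.card_eq_fintype_card,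
    Fintype.card_bool, Fintype.card_perm, Fintype.card_fin]
  rfl

end SixB

/-- no homomorphism onto `{±1}` -/
theorem hom_trivial (hG : ∀ H : Subgroup G, H.index ≠ 2) (lam : G →* ℤˣ) (u : G) : lam u = 1 := by
  by_contra h
  apply hG lam.ker
  rw [Subgroup.index_ker]
  have h1 : lam.range = ⊤ := by
    rw [eq_top_iff]
    intro v _
    rcases Int.units_eq_one_or v with rfl | rfl
    · exact one_mem _
    · exact ⟨u, (Int.units_eq_one_or _).resolve_left h⟩
  rw [h1, Nat.card_congr (Subgroup.topEquiv (G := ℤˣ)).toEquiv, Nat.card_eq_fintype_card]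
  rfl

/-- THE TRANSFER FORMULA for an injective homomorphism `Ψ : M → G` -/
theorem tf_hom [Finite G] (hG : ∀ H : Subgroup G, H.index ≠ 2) {x : G} (hx : x * x = 1)
    {M : Type*} [Group M] (Ψ : M →* G) (hΨ : Function.Injective Ψ) (lam : M →* ℤˣ) :
    2 * Nat.card M ∣ Nat.card {m : M // IsConj x (Ψ m) ∧ lam m = -1} * Nat.card (centralizer ({x} : Set G)) := by
  have e := MonoidHom.ofInjective hΨ
  obtain ⟨k, hk, h⟩ := Six.TF.exists_even (hom_trivial hG) hx Ψ.range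
    (lam.comp (MonoidHom.ofInjective hΨ).symm.toMonoidHom)
  have h1 : Nat.card Ψ.range = Nat.card M := Nat.card_congr e.symm.toEquiv
  have h2 : (Six.TF.Neg x Ψ.range (lam.comp (MonoidHom.ofInjective hΨ).symm.toMonoidHom)).ncard =
      Nat.card {m : M // IsConj x (Ψ m) ∧ lam m = -1} := by
    symm
    refine Nat.card_congr (Equiv.ofBijective (fun m => ⟨Ψ m.1, m.2.1, ⟨m.1, rfl⟩, ?_⟩) ⟨?_, ?_⟩)
    · have h3 : (MonoidHom.ofInjective hΨ).symm ⟨Ψ m.1, ⟨m.1, rfl⟩⟩ = m.1 := by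
        rw [MulEquiv.symm_apply_eq]
        rfl
      show lam ((MonoidHom.ofInjective hΨ).symm ⟨Ψ m.1, ⟨m.1, rfl⟩⟩) = -1
      rw [h3]; exact m.2.2
    · intro m m' hm
      exact Subtype.ext (hΨ (congrArg Subtype.val hm))
    · rintro ⟨d, hd, ⟨m, rfl⟩, h3⟩
      refine ⟨⟨m, hd, ?_⟩, rfl⟩
      have h4 : (MonoidHom.ofInjective hΨ).symm ⟨Ψ m, ⟨m, rfl⟩⟩ = m := by
        rw [MulEquiv.symm_apply_eq]
        rfl
      have h5 : lam ((MonoidHom.ofInjective hΨ).symm ⟨Ψ m, ⟨m, rfl⟩⟩) = -1 := h3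
      rwa [h4] at h5
  rw [h1, h2] at h
  rw [← h]
  obtain ⟨r, rfl⟩ := hk
  exact ⟨r, by ring⟩

end Cfsg.Agent.OddHalf.D6.SixU

end

-- merged: Cfsg.Agent.OddHalf.D6.SixU.Tee
section

/-!
# ODD D6, `q = 9`, case C3a (B): the Sylow subgroup `T` of `C_G(x)` (helper680)
-/

set_option autoImplicit false

namespace Cfsg.Agent.OddHalf.D6.SixU

open Subgroup Equiv

variable {G : Type*} [Group G]

/-- `U = ⟨pa, pe, pf⟩`, of order 16, is the centralizer of `pf` and `pz` -/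
def InU (u : P6) : Prop := u * pf = pf * u ∧ u * pz = pz * u

instance : DecidablePred InU := fun u => by unfold InU; infer_instance

theorem InU.mul {u v : P6} (hu : InU u) (hv : InU v) : InU (u * v) :=
  ⟨by rw [mul_assoc, hv.1, ← mul_assoc, hu.1, mul_assoc], by rw [mul_assoc, hv.2, ← mul_assoc, hu.2, mul_assoc]⟩

theorem InU.inv {u : P6} (hu : InU u) : InU u⁻¹ :=
  ⟨by rw [inv_mul_eq_iff_eq_mul, ← mul_assoc, hu.1, mul_assoc, mul_inv_cancel, mul_one],
    by rw [inv_mul_eq_iff_eq_mul, ← mul_assoc, hu.2, mul_assoc, mul_inv_cancel, mul_one]⟩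

theorem inU_one : InU 1 := ⟨by simp, by simp⟩

theorem card_inU : Fintype.card {u : P6 // InU u} = 16 := by decide +kernel

/-- the Sylow 2-subgroup `T = ⟨x⟩ × φ(U)` of `C_G(x)` -/
def Tee (x : G) (φ : P6 →* G) : Subgroup G := centralizer ({x, φ pf, φ pz} : Set G)

theorem mem_Tee {x : G} {φ : P6 →* G} {g : G} :
    g ∈ Tee x φ ↔ g * x = x * g ∧ g * φ pf = φ pf * g ∧ g * φ pz = φ pz * g := by
  rw [Tee, mem_centralizer_iff]
  simp only [Set.mem_insert_iff, Set.mem_singleton_iff, forall_eq_or_imp, forall_eq]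
  exact ⟨fun h => ⟨h.1.symm, h.2.1.symm, h.2.2.symm⟩, fun h => ⟨h.1.symm, h.2.1.symm, h.2.2.symm⟩⟩

namespace SixB

variable {x : G} {φ : P6 →* G}

theorem mem_Tee_iff (H : SixB x φ) {g : G} : g ∈ Tee x φ ↔ ∃ u, InU u ∧ (g = φ u ∨ g = x * φ u) := by
  rw [mem_Tee]
  constructor
  · rintro ⟨h1, h2, h3⟩
    obtain ⟨u, hu | hu⟩ := H.cases h1
    · refine ⟨u, ⟨H.inj ?_, H.inj ?_⟩, Or.inl hu⟩
      · rw [map_mul, map_mul, ← hu, h2]
      · rw [map_mul, map_mul, ← hu, h3]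
    · refine ⟨u, ⟨H.inj ?_, H.inj ?_⟩, Or.inr hu⟩
      · rw [hu] at h2
        rw [map_mul, map_mul]
        apply mul_left_cancel (a := x)
        rw [← mul_assoc, h2, ← mul_assoc, ← mul_assoc, H.comm]
      · rw [hu] at h3
        rw [map_mul, map_mul]
        apply mul_left_cancel (a := x)
        rw [← mul_assoc, h3, ← mul_assoc, ← mul_assoc, H.comm]
  · rintro ⟨u, ⟨h1, h2⟩, rfl | rfl⟩
    · exact ⟨H.comm' u, by rw [← map_mul, h1, map_mul], by rw [← map_mul, h2, map_mul]⟩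
    · refine ⟨by rw [mul_assoc, H.comm' u], ?_, ?_⟩
      · rw [mul_assoc, ← map_mul, h1, map_mul, ← mul_assoc, ← mul_assoc, H.comm]
      · rw [mul_assoc, ← map_mul, h2, map_mul, ← mul_assoc, ← mul_assoc, H.comm]

theorem phi_mem_Tee (H : SixB x φ) {u : P6} (hu : InU u) : φ u ∈ Tee x φ :=
  H.mem_Tee_iff.2 ⟨u, hu, Or.inl rfl⟩

theorem x_mem_Tee (H : SixB x φ) : x ∈ Tee x φ :=
  H.mem_Tee_iff.2 ⟨1, inU_one, Or.inr (by rw [map_one, mul_one])⟩

theorem Tee_le (_ : SixB x φ) : Tee x φ ≤ centralizer ({x} : Set G) := by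
  intro g hg
  exact mem_centralizer_singleton_iff.2 (mem_Tee.1 hg).1

theorem card_Tee (H : SixB x φ) : Nat.card (Tee x φ) = 32 := by
  have e : Bool × {u : P6 // InU u} ≃ Tee x φ :=
    Equiv.ofBijective (fun p => ⟨(if p.1 then x else 1) * φ p.2.1, by
      rw [H.mem_Tee_iff]
      refine ⟨p.2.1, p.2.2, ?_⟩
      split_ifs
      · exact Or.inr rfl
      · exact Or.inl (one_mul _)⟩)
    ⟨by
      rintro ⟨b, u, hu⟩ ⟨b', u', hu'⟩ h
      have h' : (if b then x else 1) * φ u = (if b' then x else 1) * φ u' := congrArg Subtype.val h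
      rcases b <;> rcases b'
      · simp only [Bool.false_eq_true, if_false, one_mul] at h'
        have := H.inj h'
        subst this
        rfl
      · simp only [Bool.false_eq_true, if_false, one_mul, if_true] at h'
        exact absurd h' (H.xne _ _)
      · simp only [Bool.false_eq_true, if_false, one_mul, if_true] at h'
        exact absurd h'.symm (H.xne _ _)
      · simp only [if_true] at h'
        have := H.inj (mul_left_cancel h')
        subst this
        rfl, by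
      rintro ⟨g, hg⟩
      rcases H.mem_Tee_iff.1 hg with ⟨u, hu, h | h⟩
      · exact ⟨(false, ⟨u, hu⟩), Subtype.ext (by simp [h])⟩
      · exact ⟨(true, ⟨u, hu⟩), Subtype.ext (by simp [h])⟩⟩
  rw [← Nat.card_congr e, Nat.card_prod, Nat.card_eq_fintype_card, Nat.card_eq_fintype_card,
    Fintype.card_bool, card_inU]

/-- every 2-subgroup of `C_G(x)` is conjugate in `C_G(x)` to a subgroup of `T` -/
theorem exists_conj_x [Finite G] (H : SixB x φ) {P : Subgroup G} (hP : IsPGroup 2 P)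
    (hPx : ∀ p ∈ P, p * x = x * p) : ∃ g : G, g * x * g⁻¹ = x ∧ ∀ p ∈ P, g⁻¹ * p * g ∈ Tee x φ := by
  set C := centralizer ({x} : Set G) with hC
  have hPC : P ≤ C := fun p hp => mem_centralizer_singleton_iff.2 (hPx p hp)
  have : Fact (Nat.Prime 2) := ⟨Nat.prime_two⟩
  have hT : Nat.card ((Tee x φ).subgroupOf C) = 2 ^ (Nat.card C).factorization 2 := by
    rw [Nat.card_congr (subgroupOfEquivOfLe H.Tee_le).toEquiv, H.card_Tee, H.card_C]
    have : Nat.factorization 1440 2 = 5 := by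
      rw [show (1440 : ℕ) = 2 ^ 5 * 45 by norm_num,
        Nat.factorization_mul (by norm_num) (by norm_num), Nat.Prime.factorization_pow Nat.prime_two,
        Finsupp.add_apply, Finsupp.single_eq_same, Nat.factorization_eq_zero_of_not_dvd (by norm_num)]
    rw [this]; norm_num
  let S : Sylow 2 C := Sylow.ofCard _ hT
  have hP' : IsPGroup 2 (P.subgroupOf C) := hP.of_equiv (subgroupOfEquivOfLe hPC).symm
  obtain ⟨Q, hQ⟩ := hP'.exists_le_sylow
  obtain ⟨c, hc⟩ := MulAction.exists_smul_eq C S Q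
  refine ⟨c, by rw [mem_centralizer_singleton_iff.1 c.2, mul_inv_cancel_right], ?_⟩
  intro p hp
  have h1 : (⟨p, hPC hp⟩ : C) ∈ (Q : Subgroup C) := hQ (mem_subgroupOf.2 hp)
  rw [← hc, Sylow.coe_subgroup_smul, Subgroup.mem_pointwise_smul_iff_inv_smul_mem] at h1
  have h2 : (c⁻¹ * ⟨p, hPC hp⟩ * c : C) ∈ (Tee x φ).subgroupOf C := by
    have h3 : ((MulAut.conj c)⁻¹ • (⟨p, hPC hp⟩ : C)) = c⁻¹ * ⟨p, hPC hp⟩ * c := by
      rw [← map_inv, MulAut.smul_def, MulAut.conj_apply, inv_inv]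
    rw [← h3]
    exact h1
  exact mem_subgroupOf.1 h2

/-- SYLOW: a 2-subgroup centralizing `d ∈ x^G` lies in a conjugate of `T` by an element moving `x` to `d` -/
theorem exists_conj_T [Finite G] (H : SixB x φ) {P : Subgroup G} (hP : IsPGroup 2 P) {d : G} (hd : IsConj x d)
    (hPd : ∀ p ∈ P, p * d = d * p) : ∃ g : G, g * x * g⁻¹ = d ∧ ∀ p ∈ P, g⁻¹ * p * g ∈ Tee x φ := by
  obtain ⟨g, rfl⟩ := isConj_iff.1 hd
  let P' : Subgroup G := P.map (MulAut.conj g⁻¹).toMonoidHom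
  have hP' : IsPGroup 2 P' := hP.map _
  obtain ⟨c, h1, h2⟩ := H.exists_conj_x hP' (by
    rintro _ ⟨p, hp, rfl⟩
    have h := hPd p hp
    show g⁻¹ * p * g⁻¹⁻¹ * x = x * (g⁻¹ * p * g⁻¹⁻¹)
    rw [inv_inv]
    calc g⁻¹ * p * g * x = g⁻¹ * (p * (g * x * g⁻¹)) * g := by group
      _ = g⁻¹ * (g * x * g⁻¹ * p) * g := by rw [h]
      _ = x * (g⁻¹ * p * g) := by group)
  refine ⟨g * c, ?_, ?_⟩
  · calc g * c * x * (g * c)⁻¹ = g * (c * x * c⁻¹) * g⁻¹ := by group
      _ = g * x * g⁻¹ := by rw [h1]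
  · intro p hp
    have h3 := h2 (g⁻¹ * p * g) ⟨p, hp, by
      show g⁻¹ * p * g⁻¹⁻¹ = _
      rw [inv_inv]⟩
    have h4 : (g * c)⁻¹ * p * (g * c) = c⁻¹ * (g⁻¹ * p * g) * c := by group
    rw [h4]
    exact h3

theorem card_le [Finite G] (H : SixB x φ) {P : Subgroup G} (hP : IsPGroup 2 P) {d : G} (hd : IsConj x d)
    (hPd : ∀ p ∈ P, p * d = d * p) : Nat.card P ≤ 32 := by
  obtain ⟨g, -, h⟩ := H.exists_conj_T hP hd hPd
  rw [← H.card_Tee]
  refine Nat.card_le_card_of_injective (fun p : P => (⟨g⁻¹ * p * g, h p p.2⟩ : Tee x φ)) ?_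
  intro p q hpq
  have h1 : g⁻¹ * (p : G) * g = g⁻¹ * q * g := congrArg Subtype.val hpq
  exact Subtype.ext (mul_left_cancel (mul_right_cancel h1))

/-- if `|P| = 32`, then `P = g T g⁻¹` -/
theorem conj_T_of_card [Finite G] (H : SixB x φ) {P : Subgroup G} (hP : Nat.card P = 32) {d : G}
    (hd : IsConj x d) (hPd : ∀ p ∈ P, p * d = d * p) :
    ∃ g : G, g * x * g⁻¹ = d ∧ ∀ p, p ∈ P ↔ g⁻¹ * p * g ∈ Tee x φ := by
  obtain ⟨g, h0, h⟩ := H.exists_conj_T (IsPGroup.of_card (n := 5) (by rw [hP]; norm_num)) hd hPd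
  refine ⟨g, h0, ?_⟩
  have h1 : P.map (MulAut.conj g⁻¹).toMonoidHom = Tee x φ := by
    apply Subgroup.eq_of_le_of_card_ge
    · rintro _ ⟨p, hp, rfl⟩
      show g⁻¹ * p * g⁻¹⁻¹ ∈ _
      rw [inv_inv]
      exact h p hp
    · rw [H.card_Tee, ← hP]
      exact (Nat.card_congr (P.equivMapOfInjective _ (MulAut.conj g⁻¹).injective).toEquiv).le
  intro p
  refine ⟨h p, fun hp => ?_⟩
  rw [← h1] at hp
  obtain ⟨q, hq, hqp⟩ := hp
  have h2 : g⁻¹ * q * g⁻¹⁻¹ = g⁻¹ * p * g := hqp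
  rw [inv_inv] at h2
  rw [← mul_left_cancel (mul_right_cancel h2)]
  exact hq

end SixB

end Cfsg.Agent.OddHalf.D6.SixU

end

-- merged: Cfsg.Agent.OddHalf.D6.SixU.TLevel
section

/-!
# ODD D6, `q = 9`, case C3a (B): the normalizer of `T` (helper680)

For `u ∈ {pf, pz, ph}` there is `n ∈ N(T)` with `n x n⁻¹ = x φ(u)`. An element `n` of `N(T)` normalizes `φ(U)`,
centralizes `φ(pz)`, maps `φ(pf)` to `φ(pf)` or `φ(ph)`, and fixes or exchanges `A₁ = ⟨Z, pa⟩` and `A₂ = ⟨Z, pe⟩`.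
-/

set_option autoImplicit false

namespace Cfsg.Agent.OddHalf.D6.SixU

open Subgroup Equiv

/-- powers with exponents in `ZMod 2` -/
def pw {M : Type*} [Monoid M] (g : M) (i : ZMod 2) : M := if i = 0 then 1 else g

@[simp] theorem pw_zero {M : Type*} [Monoid M] (g : M) : pw g 0 = 1 := rfl
@[simp] theorem pw_one {M : Type*} [Monoid M] (g : M) : pw g 1 = g := rfl

theorem zmod2 (i : ZMod 2) : i = 0 ∨ i = 1 := by
  revert i; decide

/-- the elements of `Z = ⟨pf, pz⟩` -/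
def zz (i j : ZMod 2) : P6 := pw pf i * pw pz j

/-- the elements of `U` -/
def pu (a e f z : ZMod 2) : P6 := pw pa a * pw pe e * pw pf f * pw pz z

theorem pu_inj : ∀ a e f z a' e' f' z' : ZMod 2, pu a e f z = pu a' e' f' z' → a = a' ∧ e = e' ∧ f = f' ∧ z = z' := by
  decide +kernel

theorem inU_pu : ∀ a e f z : ZMod 2, InU (pu a e f z) := by decide +kernel

theorem exists_pu : ∀ u : P6, InU u → ∃ a e f z : ZMod 2, u = pu a e f z := by decide +kernel

theorem pu_mul : ∀ a e f z a' e' f' z' : ZMod 2,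
    pu a e f z * pu a' e' f' z' = pu (a + a') (e + e') (f + f') (z + z' + e * a') := by decide +kernel

theorem zz_eq_pu : ∀ i j : ZMod 2, zz i j = pu 0 0 i j := by decide +kernel

theorem zz_comm : ∀ i j a e f z : ZMod 2, zz i j * pu a e f z = pu a e f z * zz i j := by decide +kernel

theorem zz_sq : ∀ i j : ZMod 2, zz i j * zz i j = 1 := by decide +kernel

variable {G : Type*} [Group G]

namespace SixB

variable {x : G} {φ : P6 →* G}

theorem mul_self_eq (H : SixB x φ) (u : P6) : x * φ u * (x * φ u) = φ (u * u) := by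
  calc x * φ u * (x * φ u) = x * (φ u * x) * φ u := by group
    _ = (x * x) * (φ u * φ u) := by rw [H.comm' u]; group
    _ = φ (u * u) := by rw [H.xx, one_mul, map_mul]

/-- `D ∩ C(x)` -/
theorem of_isConj (H : SixB x φ) {g : G} (hc : g * x = x * g) (hg : IsConj x g) :
    ∃ u, u * u = 1 ∧ g = x * φ u := by
  have hgg : g * g = 1 := by
    obtain ⟨c, rfl⟩ := isConj_iff.1 hg
    calc c * x * c⁻¹ * (c * x * c⁻¹) = c * (x * x) * c⁻¹ := by group
      _ = 1 := by rw [H.xx]; group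
  obtain ⟨u, rfl | rfl⟩ := H.cases hc
  · exfalso
    have h1 : u * u = 1 := H.phi_eq_one (by rw [map_mul, hgg])
    by_cases h2 : u = 1
    · rw [h2, map_one] at hg; exact H.not_isConj_one hg
    · exact H.nfus u h1 h2 hg
  · refine ⟨u, ?_, rfl⟩
    apply H.phi_eq_one
    rw [← H.mul_self_eq, hgg]

theorem isConj_x_mul (H : SixB x φ) {u : P6} (hu : u * u = 1) : IsConj x (x * φ u) := by
  by_cases h : u = 1
  · rw [h, map_one, mul_one]
  · exact H.fus u hu h

theorem not_isConj_phi (H : SixB x φ) (u : P6) : ¬ IsConj x (φ u) := by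
  intro h
  obtain ⟨v, -, hv⟩ := H.of_isConj (H.comm' u) h
  exact H.xne _ _ hv

theorem exists_n [Finite G] (H : SixB x φ) {u : P6} (hu : u = pf ∨ u = pz ∨ u = ph) :
    ∃ n ∈ normalizer (Tee x φ : Set G), n * x * n⁻¹ = x * φ u := by
  have h1 : u * u = 1 := by
    rcases hu with rfl | rfl | rfl <;> decide +kernel
  have hz : ∀ v, InU v → v * u = u * v := by
    intro v hv
    rcases hu with rfl | rfl | rfl
    · exact hv.1
    · exact hv.2
    · have : ph = pf * pz := by decide +kernel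
      rw [this, ← mul_assoc, hv.1, mul_assoc, hv.2, mul_assoc]
  obtain ⟨g, h2, h3⟩ := H.conj_T_of_card (P := Tee x φ) H.card_Tee (H.isConj_x_mul h1) (by
    intro p hp
    obtain ⟨v, hv, h | h⟩ := H.mem_Tee_iff.1 hp
    · rw [h, ← mul_assoc, H.comm' v, mul_assoc, mul_assoc, ← map_mul, ← map_mul, hz v hv]
    · rw [h, mul_assoc, mul_assoc]
      congr 1
      rw [← mul_assoc, ← mul_assoc, H.comm' v, H.comm' u, mul_assoc, mul_assoc, ← map_mul, ← map_mul, hz v hv])
  refine ⟨g, ?_, h2⟩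
  rw [Subgroup.mem_normalizer_iff]
  intro t
  have h4 := h3 (g * t * g⁻¹)
  have h5 : g⁻¹ * (g * t * g⁻¹) * g = t := by group
  rw [h5] at h4
  exact h4.symm

variable {n : G}

theorem n_mem (_ : SixB x φ) (hn : n ∈ normalizer (Tee x φ : Set G)) {t : G} (ht : t ∈ Tee x φ) :
    n * t * n⁻¹ ∈ Tee x φ :=
  (Subgroup.mem_normalizer_iff.1 hn t).1 ht

theorem phi_pu_mem (H : SixB x φ) (a e f z : ZMod 2) : φ (pu a e f z) ∈ Tee x φ := H.phi_mem_Tee (inU_pu a e f z)

theorem comm_Tee (_ : SixB x φ) {t : G} (ht : t ∈ Tee x φ) : t * x = x * t := (mem_Tee.1 ht).1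

theorem cent_aux : ∀ a e f z : ZMod 2, pu a e f z * pa = pa * pu a e f z → pu a e f z * pe = pe * pu a e f z →
    a = 0 ∧ e = 0 := by decide +kernel

/-- `n x n⁻¹ ∈ x Z` -/
theorem n_x (H : SixB x φ) (hn : n ∈ normalizer (Tee x φ : Set G)) : ∃ i j, n * x * n⁻¹ = x * φ (zz i j) := by
  have h1 := H.n_mem hn H.x_mem_Tee
  obtain ⟨u, hu1, hu⟩ := H.of_isConj (H.comm_Tee h1) (isConj_iff.2 ⟨n, rfl⟩)
  have h2 : ∀ v, InU v → v * u = u * v := by
    intro v hv
    have h3 : n⁻¹ * φ v * n ∈ Tee x φ := by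
      have := (Subgroup.mem_normalizer_iff.1 ((normalizer (Tee x φ : Set G)).inv_mem hn) (φ v)).1 (H.phi_mem_Tee hv)
      rwa [inv_inv] at this
    have h4 := H.comm_Tee h3
    have h5 : φ v * (n * x * n⁻¹) = n * x * n⁻¹ * φ v := by
      calc φ v * (n * x * n⁻¹) = n * (n⁻¹ * φ v * n * x) * n⁻¹ := by group
        _ = n * (x * (n⁻¹ * φ v * n)) * n⁻¹ := by rw [h4]
        _ = n * x * n⁻¹ * φ v := by group
    rw [hu] at h5
    apply H.inj
    apply mul_left_cancel (a := x)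
    rw [map_mul, map_mul]
    calc x * (φ v * φ u) = (x * φ v) * φ u := by group
      _ = φ v * x * φ u := by rw [H.comm v]
      _ = φ v * (x * φ u) := by group
      _ = x * φ u * φ v := h5
      _ = x * (φ u * φ v) := by group
  have huU : InU u := by
    have h6 : InU pf := by decide +kernel
    have h7 : InU pz := by decide +kernel
    exact ⟨(h2 pf h6).symm, (h2 pz h7).symm⟩
  obtain ⟨a, e, f, z, rfl⟩ := exists_pu u huU
  have h8 : InU pa := by decide +kernel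
  have h9 : InU pe := by decide +kernel
  obtain ⟨rfl, rfl⟩ := cent_aux a e f z (h2 pa h8).symm (h2 pe h9).symm
  exact ⟨f, z, by rw [hu, zz_eq_pu]⟩

theorem pu_gen : ∀ a e f z : ZMod 2, pu a e f z = pw pa a * pw pe e * pw pf f * pw pz z := fun _ _ _ _ => rfl

/-- `n φ(u) n⁻¹ ∈ φ(U)` for involutions `u ∈ U` -/
theorem n_invol (H : SixB x φ) (hn : n ∈ normalizer (Tee x φ : Set G)) {u : P6} (hu : InU u) (huu : u * u = 1) :
    ∃ a e f z, n * φ u * n⁻¹ = φ (pu a e f z) := by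
  obtain ⟨i, j, h1⟩ := H.n_x hn
  have h2 : x * φ u ∈ Tee x φ := H.mem_Tee_iff.2 ⟨u, hu, Or.inr rfl⟩
  have h3 := H.n_mem hn h2
  obtain ⟨v, hv, h4⟩ := H.of_isConj (H.comm_Tee h3) ((H.isConj_x_mul huu).trans (isConj_iff.2 ⟨n, rfl⟩))
  have h5 : n * φ u * n⁻¹ = φ (zz i j * v) := by
    calc n * φ u * n⁻¹ = (n * x * n⁻¹) * (n * (x * φ u) * n⁻¹) := by
          calc n * φ u * n⁻¹ = n * 1 * φ u * n⁻¹ := by group
            _ = n * (x * x) * φ u * n⁻¹ := by rw [H.xx]
            _ = _ := by group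
      _ = x * φ (zz i j) * (x * φ v) := by rw [h1, h4]
      _ = x * (φ (zz i j) * x) * φ v := by group
      _ = (x * x) * (φ (zz i j) * φ v) := by rw [H.comm' (zz i j)]; group
      _ = φ (zz i j * v) := by rw [H.xx, one_mul, map_mul]
  have h6 : InU (zz i j * v) := by
    rw [h4] at h3
    obtain ⟨w, hw, h7 | h7⟩ := H.mem_Tee_iff.1 h3
    · exact absurd h7.symm (H.xne _ _)
    · rw [zz_eq_pu]
      rw [H.inj (mul_left_cancel h7)]
      exact (inU_pu _ _ _ _).mul hw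
  obtain ⟨a, e, f, z, h7⟩ := exists_pu _ h6
  exact ⟨a, e, f, z, by rw [h5, h7]⟩

theorem invU_aux : InU pa ∧ InU pe ∧ InU pf ∧ InU pz ∧ pa * pa = 1 ∧ pe * pe = 1 ∧ pf * pf = 1 ∧ pz * pz = 1 := by
  decide +kernel

theorem comm_aux : ∀ a e f z a' e' f' z' : ZMod 2, pu a e f z * pu a' e' f' z' * (pu a e f z)⁻¹ * (pu a' e' f' z')⁻¹ ≠ 1 →
    pu a e f z * pu a' e' f' z' * (pu a e f z)⁻¹ * (pu a' e' f' z')⁻¹ = pz := by decide +kernel

theorem comm_ae : pa * pe * pa⁻¹ * pe⁻¹ = pz := by decide +kernel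

theorem pz_ne : pz ≠ 1 := by decide +kernel

theorem conj_comm {g h : G} : n * (g * h * g⁻¹ * h⁻¹) * n⁻¹ =
    (n * g * n⁻¹) * (n * h * n⁻¹) * (n * g * n⁻¹)⁻¹ * (n * h * n⁻¹)⁻¹ := by group

/-- `n` centralizes `φ(pz)` -/
theorem n_z (H : SixB x φ) (hn : n ∈ normalizer (Tee x φ : Set G)) : n * φ pz * n⁻¹ = φ pz := by
  obtain ⟨ha, he, hf, hz, haa, hee, hff, hzz⟩ := invU_aux
  obtain ⟨a, e, f, z, h1⟩ := H.n_invol hn ha haa
  obtain ⟨a', e', f', z', h2⟩ := H.n_invol hn he hee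
  have h3 : n * φ pz * n⁻¹ = φ (pu a e f z * pu a' e' f' z' * (pu a e f z)⁻¹ * (pu a' e' f' z')⁻¹) := by
    rw [← comm_ae]
    simp only [map_mul, map_inv]
    rw [conj_comm, h1, h2]
  rw [h3, comm_aux]
  intro h4
  rw [h4, map_one, mul_inv_eq_one] at h3
  exact pz_ne (H.phi_eq_one (mul_left_cancel (h3.trans (mul_one n).symm)))

/-- the two possibilities for the action of `n` on `A₁`, `A₂` -/
theorem n_ae (H : SixB x φ) (hn : n ∈ normalizer (Tee x φ : Set G)) :
    ((∃ f z, n * φ pa * n⁻¹ = φ (pu 1 0 f z)) ∧ ∃ f z, n * φ pe * n⁻¹ = φ (pu 0 1 f z)) ∨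
    ((∃ f z, n * φ pa * n⁻¹ = φ (pu 0 1 f z)) ∧ ∃ f z, n * φ pe * n⁻¹ = φ (pu 1 0 f z)) := by
  obtain ⟨ha, he, hf, hz, haa, hee, hff, hzz⟩ := invU_aux
  obtain ⟨a, e, f, z, h1⟩ := H.n_invol hn ha haa
  obtain ⟨a', e', f', z', h2⟩ := H.n_invol hn he hee
  have h3 : φ pz = φ (pu a e f z * pu a' e' f' z' * (pu a e f z)⁻¹ * (pu a' e' f' z')⁻¹) := by
    rw [← H.n_z hn, ← comm_ae]
    simp only [map_mul, map_inv]
    rw [conj_comm, h1, h2]
  have h4 := H.inj h3
  have h5 : pu a e f z * pu a e f z = 1 := by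
    apply H.phi_eq_one
    rw [map_mul, ← h1]
    calc n * φ pa * n⁻¹ * (n * φ pa * n⁻¹) = n * (φ pa * φ pa) * n⁻¹ := by group
      _ = 1 := by rw [← map_mul, haa, map_one]; group
  have h6 : pu a' e' f' z' * pu a' e' f' z' = 1 := by
    apply H.phi_eq_one
    rw [map_mul, ← h2]
    calc n * φ pe * n⁻¹ * (n * φ pe * n⁻¹) = n * (φ pe * φ pe) * n⁻¹ := by group
      _ = 1 := by rw [← map_mul, hee, map_one]; group
  have key : ∀ a e f z a' e' f' z' : ZMod 2, pu a e f z * pu a e f z = 1 → pu a' e' f' z' * pu a' e' f' z' = 1 →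
      pz = pu a e f z * pu a' e' f' z' * (pu a e f z)⁻¹ * (pu a' e' f' z')⁻¹ →
      (a = 1 ∧ e = 0 ∧ a' = 0 ∧ e' = 1) ∨ (a = 0 ∧ e = 1 ∧ a' = 1 ∧ e' = 0) := by decide +kernel
  rcases key a e f z a' e' f' z' h5 h6 h4 with ⟨rfl, rfl, rfl, rfl⟩ | ⟨rfl, rfl, rfl, rfl⟩
  · exact Or.inl ⟨⟨f, z, h1⟩, ⟨f', z', h2⟩⟩
  · exact Or.inr ⟨⟨f, z, h1⟩, ⟨f', z', h2⟩⟩

/-- `n φ(pf) n⁻¹ = φ(pf)` or `φ(ph)` -/
theorem n_f (H : SixB x φ) (hn : n ∈ normalizer (Tee x φ : Set G)) :
    n * φ pf * n⁻¹ = φ pf ∨ n * φ pf * n⁻¹ = φ ph := by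
  obtain ⟨ha, he, hf, hz, haa, hee, hff, hzz⟩ := invU_aux
  obtain ⟨a, e, f, z, h1⟩ := H.n_invol hn hf hff
  have hc : ∀ v, InU v → ∀ w, n * φ v * n⁻¹ = φ w → pu a e f z * w = w * pu a e f z := by
    intro v hv w hw
    apply H.inj
    rw [map_mul, map_mul, ← hw, ← h1]
    have h3 : φ pf * φ v = φ v * φ pf := by rw [← map_mul, ← map_mul, hv.1]
    calc n * φ pf * n⁻¹ * (n * φ v * n⁻¹) = n * (φ pf * φ v) * n⁻¹ := by group
      _ = n * φ v * n⁻¹ * (n * φ pf * n⁻¹) := by rw [h3]; group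
  have key : ∀ a e f z f1 z1 f2 z2 : ZMod 2, pu a e f z * pu 1 0 f1 z1 = pu 1 0 f1 z1 * pu a e f z →
      pu a e f z * pu 0 1 f2 z2 = pu 0 1 f2 z2 * pu a e f z → a = 0 ∧ e = 0 := by decide +kernel
  have h2 : a = 0 ∧ e = 0 := by
    rcases H.n_ae hn with ⟨⟨f1, z1, h3⟩, ⟨f2, z2, h4⟩⟩ | ⟨⟨f1, z1, h3⟩, ⟨f2, z2, h4⟩⟩
    · exact key a e f z f1 z1 f2 z2 (hc _ ha _ h3) (hc _ he _ h4)
    · exact key a e f z f2 z2 f1 z1 (hc _ he _ h4) (hc _ ha _ h3)
  obtain ⟨rfl, rfl⟩ := h2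
  have h5 : f = 1 := by
    rcases zmod2 f with rfl | h
    · exfalso
      have e1 : ∀ z : ZMod 2, pu 0 0 0 z = 1 ∨ pu 0 0 0 z = pz := by decide +kernel
      rcases e1 z with h | h
      · rw [h, map_one, mul_inv_eq_one] at h1
        have h2 := H.phi_eq_one (mul_left_cancel (h1.trans (mul_one n).symm))
        exact absurd h2 (by decide +kernel)
      · rw [h, ← H.n_z hn] at h1
        exact absurd (H.inj (mul_left_cancel (mul_right_cancel h1))) (by decide +kernel)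
    · exact h
  subst h5
  have e2 : ∀ z : ZMod 2, pu 0 0 1 z = pf ∨ pu 0 0 1 z = ph := by decide +kernel
  rcases e2 z with h | h
  · left; rw [h1, h]
  · right; rw [h1, h]

/-- `n` normalizes `φ(U)` -/
theorem n_U (H : SixB x φ) (hn : n ∈ normalizer (Tee x φ : Set G)) {u : P6} (hu : InU u) :
    ∃ u', InU u' ∧ n * φ u * n⁻¹ = φ u' := by
  obtain ⟨ha, he, hf, hz, haa, hee, hff, hzz⟩ := invU_aux
  have key : ∀ g, InU g → g * g = 1 → ∀ i : ZMod 2, ∃ u', InU u' ∧ n * φ (pw g i) * n⁻¹ = φ u' := by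
    intro g hg hgg i
    rcases zmod2 i with rfl | rfl
    · exact ⟨1, inU_one, by rw [pw_zero, map_one]; group⟩
    · obtain ⟨a, e, f, z, h⟩ := H.n_invol hn hg hgg
      exact ⟨_, inU_pu a e f z, h⟩
  obtain ⟨a, e, f, z, rfl⟩ := exists_pu u hu
  obtain ⟨u1, h1, k1⟩ := key pa ha haa a
  obtain ⟨u2, h2, k2⟩ := key pe he hee e
  obtain ⟨u3, h3, k3⟩ := key pf hf hff f
  obtain ⟨u4, h4, k4⟩ := key pz hz hzz z
  refine ⟨u1 * u2 * u3 * u4, ((h1.mul h2).mul h3).mul h4, ?_⟩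
  rw [pu, map_mul, map_mul, map_mul, map_mul, map_mul, map_mul, ← k1, ← k2, ← k3, ← k4]
  group

end SixB

end Cfsg.Agent.OddHalf.D6.SixU

end
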