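import Cfsg.Agent.OddHalf.D6.SixU.NT
set_option linter.all false

/-!
# ODD D6, `C_G(x) = ⟨x⟩ × S₆`, uniform pattern: the two elementary subgroups of order 16 of `T` (helper708)

`EB x φ b = C_T(φ b)` for `b = a0 = (0 1)` and `b = e0 = (0 2)(1 3)`. An element `n` of `P = N_G(T)` fixes or swaps them.
-/

set_option autoImplicit false

namespace Cfsg.Agent.OddHalf.D6.SixU.TwoE

open Subgroup Equiv
open Cfsg.Agent.OddHalf.D6.Six
open Cfsg.Agent.OddHalf.D6.SixU.NT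

/-- the elements of `PP` commuting with `b` -/
def YY (b p : Perm (Fin 6)) : Prop := PP p ∧ p * b = b * p

instance (b : Perm (Fin 6)) : DecidablePred (YY b) := fun p => by unfold YY; infer_instance

theorem YY.mul {b p q : Perm (Fin 6)} (hp : YY b p) (hq : YY b q) : YY b (p * q) :=
  ⟨⟨by rw [mul_assoc, hq.1.1, ← mul_assoc, hp.1.1, mul_assoc], by rw [mul_assoc, hq.1.2, ← mul_assoc, hp.1.2, mul_assoc]⟩,
    by rw [mul_assoc, hq.2, ← mul_assoc, hp.2, mul_assoc]⟩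

/-- `b = a0` or `b = e0` -/
def BB (b : Perm (Fin 6)) : Prop := b = a0 ∨ b = e0

theorem YY_of_ZZ {b s : Perm (Fin 6)} (hb : BB b) (hs : ZZ s) : YY b s := by
  rcases hb with rfl | rfl <;> rcases hs with rfl | rfl | rfl | rfl <;> decide

theorem YY_self {b : Perm (Fin 6)} (hb : BB b) : YY b b := by
  rcases hb with rfl | rfl <;> decide

theorem YY_a0 : ∀ p : Perm (Fin 6), YY a0 p → ZZ p ∨ ZZ (a0 * p) := by decide +kernel

theorem YY_e0 : ∀ p : Perm (Fin 6), YY e0 p → ZZ p ∨ ZZ (e0 * p) := by decide +kernel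

theorem YY_cases {b p : Perm (Fin 6)} (hb : BB b) (hp : YY b p) : ZZ p ∨ ZZ (b * p) := by
  rcases hb with rfl | rfl
  · exact YY_a0 p hp
  · exact YY_e0 p hp

theorem PP_split : ∀ p : Perm (Fin 6), PP p → p * p = 1 → ¬ ZZ p →
    (p * a0 = a0 * p ∧ ¬ p * e0 = e0 * p) ∨ (p * e0 = e0 * p ∧ ¬ p * a0 = a0 * p) := by decide +kernel

theorem cent_a0 : ∀ p : Perm (Fin 6), (PP p ∧ ¬ ZZ p ∧ p * p = 1 ∧ p * a0 = a0 * p) →
    ∀ q : Perm (Fin 6), PP q → (q * p = p * q ↔ q * a0 = a0 * q) := by decide +kernel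

theorem cent_e0 : ∀ p : Perm (Fin 6), (PP p ∧ ¬ ZZ p ∧ p * p = 1 ∧ p * e0 = e0 * p) →
    ∀ q : Perm (Fin 6), PP q → (q * p = p * q ↔ q * e0 = e0 * q) := by decide +kernel

theorem cent_b {b : Perm (Fin 6)} (hb : BB b) {p : Perm (Fin 6)} (h1 : PP p) (h2 : p * p = 1) (h3 : ¬ ZZ p)
    (h4 : p * b = b * p) {q : Perm (Fin 6)} (hq : PP q) : q * p = p * q ↔ q * b = b * q := by
  rcases hb with rfl | rfl
  · exact cent_a0 p ⟨h1, h3, h2, h4⟩ q hq
  · exact cent_e0 p ⟨h1, h3, h2, h4⟩ q hq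

theorem b_PP {b : Perm (Fin 6)} (hb : BB b) : PP b := (YY_self hb).1

theorem b_sq {b : Perm (Fin 6)} (hb : BB b) : b * b = 1 := by
  rcases hb with rfl | rfl <;> decide

variable {G : Type*} [Group G] {x : G} {φ : Perm (Fin 6) →* G}

/-- `C_T(φ b)` -/
def EB (x : G) (φ : Perm (Fin 6) →* G) (b : Perm (Fin 6)) : Subgroup G := TT x φ ⊓ centralizer {φ b}

theorem mem_EB {b : Perm (Fin 6)} {g : G} : g ∈ EB x φ b ↔ g ∈ TT x φ ∧ g * φ b = φ b * g := by
  rw [EB, mem_inf, mem_centralizer_singleton_iff]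

theorem mem_EB_iff (S : SSix x φ) {b : Perm (Fin 6)} {g : G} :
    g ∈ EB x φ b ↔ ∃ p, YY b p ∧ (g = φ p ∨ g = x * φ p) := by
  rw [mem_EB, S.mem_TT_iff]
  constructor
  · rintro ⟨⟨p, hp, rfl | rfl⟩, h⟩
    · exact ⟨p, ⟨hp, S.comm_iff.1 h⟩, Or.inl rfl⟩
    · exact ⟨p, ⟨hp, S.comm_iff'.1 h⟩, Or.inr rfl⟩
  · rintro ⟨p, hp, rfl | rfl⟩
    · exact ⟨⟨p, hp.1, Or.inl rfl⟩, S.comm_iff.2 hp.2⟩
    · exact ⟨⟨p, hp.1, Or.inr rfl⟩, S.comm_iff'.2 hp.2⟩

theorem phi_mem_EB (S : SSix x φ) {b p : Perm (Fin 6)} : φ p ∈ EB x φ b ↔ YY b p := by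
  rw [mem_EB_iff S]
  constructor
  · rintro ⟨q, hq, h | h⟩
    · rwa [S.inj h]
    · exact absurd h (S.ne p q)
  · exact fun h => ⟨p, h, Or.inl rfl⟩

theorem xphi_mem_EB (S : SSix x φ) {b p : Perm (Fin 6)} : x * φ p ∈ EB x φ b ↔ YY b p := by
  rw [mem_EB_iff S]
  constructor
  · rintro ⟨q, hq, h | h⟩
    · exact absurd h.symm (S.ne q p)
    · rwa [S.mul_inj h]
  · exact fun h => ⟨p, h, Or.inr rfl⟩

theorem x_mem_EB (S : SSix x φ) (b : Perm (Fin 6)) : x ∈ EB x φ b :=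
  mem_EB.2 ⟨x_mem S, S.comm b⟩

/-- `n` maps `C_T(φ b)` to `C_T(φ b')` -/
def MM (x : G) (φ : Perm (Fin 6) →* G) (n : G) (b b' : Perm (Fin 6)) : Prop :=
  ∀ t, t ∈ EB x φ b ↔ n * t * n⁻¹ ∈ EB x φ b'

theorem MM_normalizer {n : G} {b : Perm (Fin 6)} : MM x φ n b b ↔ n ∈ normalizer (EB x φ b : Set G) :=
  mem_normalizer_iff.symm

theorem MM.mul {n m : G} {b b' b'' : Perm (Fin 6)} (h : MM x φ n b' b'') (h' : MM x φ m b b') :
    MM x φ (n * m) b b'' := by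
  intro t
  rw [h' t, h (m * t * m⁻¹)]
  rw [show n * (m * t * m⁻¹) * n⁻¹ = n * m * t * (n * m)⁻¹ by group]

theorem MM.inv {n : G} {b b' : Perm (Fin 6)} (h : MM x φ n b b') : MM x φ n⁻¹ b' b := by
  intro t
  rw [h, show n * (n⁻¹ * t * n⁻¹⁻¹) * n⁻¹ = t by group]

theorem MM.false (S : SSix x φ) {n : G} (h : MM x φ n a0 a0) (h' : MM x φ n a0 e0) : False := by
  have h1 := (h'.mul h.inv) (φ a0)
  rw [mul_inv_cancel, one_mul, inv_one, mul_one, phi_mem_EB S, phi_mem_EB S] at h1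
  revert h1
  decide

theorem MM.false' (S : SSix x φ) {n : G} (h : MM x φ n e0 e0) (h' : MM x φ n e0 a0) : False := by
  have h1 := (h'.mul h.inv) (φ a0)
  rw [mul_inv_cancel, one_mul, inv_one, mul_one, phi_mem_EB S, phi_mem_EB S] at h1
  revert h1
  decide

/-- the image of `φ b` -/
theorem conj_b (S : SSix x φ) {n : G} (hn : n ∈ normalizer (TT x φ : Set G)) {b : Perm (Fin 6)} (hb : BB b) :
    ∃ p, PP p ∧ p * p = 1 ∧ ¬ ZZ p ∧ (n * φ b * n⁻¹ = φ p ∨ n * φ b * n⁻¹ = x * φ p) := by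
  have h1 := conj_mem hn ((phi_mem S).2 (b_PP hb))
  obtain ⟨p, hp, h⟩ := S.mem_TT_iff.1 h1
  have h2 : n * φ b * n⁻¹ * (n * φ b * n⁻¹) = 1 := by
    calc n * φ b * n⁻¹ * (n * φ b * n⁻¹) = n * φ (b * b) * n⁻¹ := by rw [map_mul]; group
      _ = 1 := by rw [b_sq hb, map_one]; group
  refine ⟨p, hp, ?_, ?_, h⟩
  · apply S.inj
    rw [map_mul, map_one, ← h2]
    rcases h with h | h
    · rw [h]
    · rw [h]
      calc φ p * φ p = (x * x) * φ p * φ p := by rw [S.xx, one_mul]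
        _ = x * (x * φ p) * φ p := by group
        _ = x * (φ p * x) * φ p := by rw [S.comm p]
        _ = x * φ p * (x * φ p) := by group
  · intro hz
    have h3 : ∀ t ∈ TT x φ, t * (n * φ b * n⁻¹) = n * φ b * n⁻¹ * t := by
      intro t ht
      rcases h with h | h
      · rw [h]; exact phi_comm S hz ht
      · rw [h]; exact xphi_comm S hz ht
    have h4 : ∀ q, PP q → q * b = b * q := by
      intro q hq
      have h5 := h3 _ (conj_mem hn ((phi_mem S).2 hq))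
      apply S.inj
      rw [map_mul, map_mul]
      calc φ q * φ b = n⁻¹ * (n * φ q * n⁻¹ * (n * φ b * n⁻¹)) * n := by group
        _ = n⁻¹ * (n * φ b * n⁻¹ * (n * φ q * n⁻¹)) * n := by rw [h5]
        _ = φ b * φ q := by group
    rcases hb with rfl | rfl
    · exact absurd (h4 e0 (by decide)) (by decide)
    · exact absurd (h4 a0 (by decide)) (by decide)

/-- if `n φ(b) n⁻¹` commutes with `φ b'` then `n` maps `C_T(φ b)` to `C_T(φ b')` -/
theorem MM_of_comm (S : SSix x φ) {n : G} (hn : n ∈ normalizer (TT x φ : Set G)) {b b' : Perm (Fin 6)} (hb : BB b)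
    (hb' : BB b') (h : n * φ b * n⁻¹ * φ b' = φ b' * (n * φ b * n⁻¹)) : MM x φ n b b' := by
  obtain ⟨p, h1, h2, h3, h4⟩ := conj_b S hn hb
  have h5 : p * b' = b' * p := by
    rcases h4 with h4 | h4
    · rw [h4] at h; exact S.comm_iff.1 h
    · rw [h4] at h; exact S.comm_iff'.1 h
  intro t
  rw [mem_EB, mem_EB, ← mem_P.1 hn t]
  refine and_congr_right fun ht => ?_
  have h6 : t * φ b = φ b * t ↔ n * t * n⁻¹ * (n * φ b * n⁻¹) = n * φ b * n⁻¹ * (n * t * n⁻¹) := by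
    constructor
    · intro h
      calc n * t * n⁻¹ * (n * φ b * n⁻¹) = n * (t * φ b) * n⁻¹ := by group
        _ = n * (φ b * t) * n⁻¹ := by rw [h]
        _ = n * φ b * n⁻¹ * (n * t * n⁻¹) := by group
    · intro h
      calc t * φ b = n⁻¹ * (n * t * n⁻¹ * (n * φ b * n⁻¹)) * n := by group
        _ = n⁻¹ * (n * φ b * n⁻¹ * (n * t * n⁻¹)) * n := by rw [h]
        _ = φ b * t := by group
  rw [h6]
  obtain ⟨q, hq, hq'⟩ := S.mem_TT_iff.1 (conj_mem hn ht)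
  have h7 := cent_b hb' h1 h2 h3 h5 hq
  have h8 : n * t * n⁻¹ * φ b' = φ b' * (n * t * n⁻¹) ↔ q * b' = b' * q := by
    rcases hq' with h | h
    · rw [h]; exact S.comm_iff
    · rw [h]; exact S.comm_iff'
  rw [h8, ← h7]
  have h9 : n * t * n⁻¹ * φ p = φ p * (n * t * n⁻¹) ↔ q * p = p * q := by
    rcases hq' with h | h
    · rw [h]; exact S.comm_iff
    · rw [h]; exact S.comm_iff'
  rw [← h9]
  have hx : n * t * n⁻¹ * x = x * (n * t * n⁻¹) := (mem_TT.1 (conj_mem hn ht)).1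
  rcases h4 with h | h
  · rw [h]
  · rw [h]
    constructor
    · intro h10
      apply mul_left_cancel (a := x)
      calc x * (n * t * n⁻¹ * φ p) = (x * (n * t * n⁻¹)) * φ p := by group
        _ = n * t * n⁻¹ * x * φ p := by rw [hx]
        _ = n * t * n⁻¹ * (x * φ p) := by group
        _ = x * φ p * (n * t * n⁻¹) := h10
        _ = x * (φ p * (n * t * n⁻¹)) := by group
    · intro h10
      calc n * t * n⁻¹ * (x * φ p) = n * t * n⁻¹ * x * φ p := by group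
        _ = x * (n * t * n⁻¹) * φ p := by rw [hx]
        _ = x * (n * t * n⁻¹ * φ p) := by group
        _ = x * (φ p * (n * t * n⁻¹)) := by rw [h10]
        _ = x * φ p * (n * t * n⁻¹) := by group

theorem MM_or (S : SSix x φ) {n : G} (hn : n ∈ normalizer (TT x φ : Set G)) {b : Perm (Fin 6)} (hb : BB b) :
    MM x φ n b a0 ∨ MM x φ n b e0 := by
  obtain ⟨p, h1, h2, h3, h4⟩ := conj_b S hn hb
  rcases PP_split p h1 h2 h3 with ⟨h5, -⟩ | ⟨h5, -⟩
  · left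
    apply MM_of_comm S hn hb (Or.inl rfl)
    rcases h4 with h | h
    · rw [h]; exact S.comm_iff.2 h5
    · rw [h]; exact S.comm_iff'.2 h5
  · right
    apply MM_of_comm S hn hb (Or.inr rfl)
    rcases h4 with h | h
    · rw [h]; exact S.comm_iff.2 h5
    · rw [h]; exact S.comm_iff'.2 h5

/-- either `n` fixes both or `n` swaps them -/
theorem MM_cases (S : SSix x φ) {n : G} (hn : n ∈ normalizer (TT x φ : Set G)) :
    (MM x φ n a0 a0 ∧ MM x φ n e0 e0) ∨ (MM x φ n a0 e0 ∧ MM x φ n e0 a0) := by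
  rcases MM_or S hn (Or.inl rfl : BB a0) with h | h <;> rcases MM_or S hn (Or.inr rfl : BB e0) with h' | h'
  · exfalso
    have h1 := (h'.inv.mul h)
    have h2 := (h.inv.mul h)
    rw [inv_mul_cancel] at h1 h2
    exact MM.false S h2 h1
  · exact Or.inl ⟨h, h'⟩
  · exact Or.inr ⟨h, h'⟩
  · exfalso
    have h1 := (h'.inv.mul h)
    have h2 := (h.inv.mul h)
    rw [inv_mul_cancel] at h1 h2
    exact MM.false S h2 h1

/-- `T` fixes them -/
theorem MM_T (S : SSix x φ) {t : G} (ht : t ∈ TT x φ) {b : Perm (Fin 6)} (hb : BB b) : MM x φ t b b := by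
  apply MM_of_comm S (T_le ht) hb hb
  have h1 := comm_TT S ht ((phi_mem S).2 (b_PP hb))
  have h2 : t * φ b * t⁻¹ = φ b ∨ t * φ b * t⁻¹ = φ c2 * φ b := by
    rcases h1 with h | h
    · exact Or.inl (mul_inv_eq_one.1 h)
    · exact Or.inr (mul_inv_eq_iff_eq_mul.1 h)
  rcases h2 with h | h
  · rw [h]
  · rw [h, ← mul_assoc (φ b), phi_comm S c2_mem ((phi_mem S).2 (b_PP hb))]

theorem T_le_norm (S : SSix x φ) {b : Perm (Fin 6)} (hb : BB b) : TT x φ ≤ normalizer (EB x φ b : Set G) :=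
  fun _ ht => MM_normalizer.1 (MM_T S ht hb)

end Cfsg.Agent.OddHalf.D6.SixU.TwoE
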