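import Cfsg.Agent.OddHalf.D6.SixU.EB
set_option linter.all false

/-!
# ODD D6, `C_G(x) = ⟨x⟩ × S₆`, uniform pattern, some `n ∈ N_G(T)` swaps the two `E₁₆` of `T`: the element `g` (helper708)

helper751's #11768 (2) (a), (b): there is `g ∈ N_G(T)` normalising both `E₁₆` with `g x g⁻¹ = x φ(c₂)`,
`g φ(c₁) g⁻¹ = φ(c₁)`, and `N_G(T)/T` is cyclic, generated by every `n` swapping them.
-/

set_option autoImplicit false

namespace Cfsg.Agent.OddHalf.D6.SixU.SwapA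

open Subgroup Equiv
open Cfsg.Agent.OddHalf.D6.Six
open Cfsg.Agent.OddHalf.D6.SixU.NT Cfsg.Agent.OddHalf.D6.SixU.TwoE

abbrev r1 : Perm (Fin 6) := swap 0 1 * swap 1 2
abbrev r2 : Perm (Fin 6) := (swap 4 0 * swap 0 2) * (swap 5 1 * swap 1 3)

/-- normalises `YY b` -/
def NY (b p : Perm (Fin 6)) : Prop := YY b (p * c1 * p⁻¹) ∧ YY b (p * c2 * p⁻¹) ∧ YY b (p * b * p⁻¹)

instance (b : Perm (Fin 6)) : DecidablePred (NY b) := fun p => by unfold NY; infer_instance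

set_option Elab.async false in
theorem card_NY_a : (Finset.univ.filter fun p : Perm (Fin 6) => NY a0 p).card = 48 := by decide +kernel

set_option Elab.async false in
theorem card_NY_e : (Finset.univ.filter fun p : Perm (Fin 6) => NY e0 p).card = 48 := by decide +kernel

theorem NY_r1 : NY e0 r1 := by decide
theorem NY_r2 : NY a0 r2 := by decide

theorem NY_conj {b p q : Perm (Fin 6)} (hb : BB b) (hp : NY b p) (hq : YY b q) : YY b (p * q * p⁻¹) := by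
  have hm : ∀ u v, YY b (p * u * p⁻¹) → YY b (p * v * p⁻¹) → YY b (p * (u * v) * p⁻¹) := by
    intro u v hu hv
    rw [show p * (u * v) * p⁻¹ = (p * u * p⁻¹) * (p * v * p⁻¹) by group]
    exact hu.mul hv
  have h1 : YY b (p * 1 * p⁻¹) := by
    rw [mul_one, mul_inv_cancel]
    exact YY_of_ZZ hb (Or.inl rfl)
  have hz : ∀ s, ZZ s → YY b (p * s * p⁻¹) := by
    rintro s (rfl | rfl | rfl | rfl)
    · exact h1
    · exact hp.1
    · exact hp.2.1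
    · rw [← show c1 * c2 = c3 by decide]
      exact hm _ _ hp.1 hp.2.1
  rcases YY_cases hb hq with h | h
  · exact hz q h
  · have : q = b * (b * q) := by rw [← mul_assoc, b_sq hb, one_mul]
    rw [this]
    exact hm _ _ hp.2.2 (hz _ h)

variable {G : Type*} [Group G] {x : G} {φ : Perm (Fin 6) →* G}

theorem conj_phi (S : SSix x φ) {g : G} {p q : Perm (Fin 6)} (h : g = φ p ∨ g = x * φ p) :
    g * φ q * g⁻¹ = φ (p * q * p⁻¹) := by
  rcases h with rfl | rfl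
  · rw [map_mul, map_mul, map_inv]
  · calc x * φ p * φ q * (x * φ p)⁻¹ = x * (φ p * φ q * (φ p)⁻¹) * x⁻¹ := by group
      _ = x * φ (p * q * p⁻¹) * x⁻¹ := by rw [map_mul, map_mul, map_inv]
      _ = φ (p * q * p⁻¹) := by rw [S.comm, mul_inv_cancel_right]

theorem conj_xphi (S : SSix x φ) {g : G} {p q : Perm (Fin 6)} (h : g = φ p ∨ g = x * φ p) :
    g * (x * φ q) * g⁻¹ = x * φ (p * q * p⁻¹) := by
  have hg : g * x = x * g := by
    rcases h with rfl | rfl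
    · exact S.comm' p
    · rw [mul_assoc, S.comm']
  calc g * (x * φ q) * g⁻¹ = (g * x) * φ q * g⁻¹ := by group
    _ = x * (g * φ q * g⁻¹) := by rw [hg]; group
    _ = x * φ (p * q * p⁻¹) := by rw [conj_phi S h]

theorem mem_norm_iff [Finite G] (S : SSix x φ) {b : Perm (Fin 6)} (hb : BB b) {g : G} {p : Perm (Fin 6)}
    (h : g = φ p ∨ g = x * φ p) : g ∈ normalizer (EB x φ b : Set G) ↔ NY b p := by
  constructor
  · intro hg
    have key : ∀ q, YY b q → YY b (p * q * p⁻¹) := by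
      intro q hq
      have h1 := (mem_normalizer_iff.1 hg (φ q)).1 ((phi_mem_EB S).2 hq)
      rw [conj_phi S h] at h1
      exact (phi_mem_EB S).1 h1
    exact ⟨key _ (YY_of_ZZ hb c1_mem), key _ (YY_of_ZZ hb c2_mem), key _ (YY_self hb)⟩
  · intro hp
    have : Finite (EB x φ b : Set G) := inferInstance
    apply mem_normalizer_fintype
    intro t ht
    obtain ⟨q, hq, rfl | rfl⟩ := (mem_EB_iff S).1 ht
    · rw [conj_phi S h]
      exact (phi_mem_EB S).2 (NY_conj hb hp hq)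
    · rw [conj_xphi S h]
      exact (xphi_mem_EB S).2 (NY_conj hb hp hq)

theorem card_norm_inf [Finite G] (S : SSix x φ) {b : Perm (Fin 6)} (hb : BB b) :
    Nat.card ((normalizer (EB x φ b : Set G) ⊓ centralizer {x} : Subgroup G)) = 96 := by
  classical
  rw [card_of_mem S _ (NY b)]
  · rcases hb with rfl | rfl
    · have := card_NY_a
      convert congrArg (2 * ·) this
    · have := card_NY_e
      convert congrArg (2 * ·) this
  · intro g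
    constructor
    · rintro ⟨h1, h2⟩
      obtain ⟨p, hp⟩ := S.cx g (mem_centralizer_singleton_iff.1 h2)
      exact ⟨p, (mem_norm_iff S hb hp).1 h1, hp⟩
    · rintro ⟨p, hp, h⟩
      refine ⟨(mem_norm_iff S hb h).2 hp, mem_centralizer_singleton_iff.2 ?_⟩
      rcases h with rfl | rfl
      · exact S.comm' p
      · rw [mul_assoc, S.comm']

/-- the orbit of `x` under `N(E_b)` -/
def Orb (x : G) (φ : Perm (Fin 6) →* G) (b : Perm (Fin 6)) : Set G :=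
  {d | ∃ h ∈ normalizer (EB x φ b : Set G), h * x * h⁻¹ = d}

theorem card_norm [Finite G] (S : SSix x φ) {b : Perm (Fin 6)} (hb : BB b) :
    Nat.card (normalizer (EB x φ b : Set G)) = (Orb x φ b).ncard * 96 := by
  rw [Parity.card_orbit x, card_norm_inf S hb]
  rfl

/-- the elements of the orbit -/
theorem orb_mem (U : Uni x φ) {b : Perm (Fin 6)} {h : G} (hh : h ∈ normalizer (EB x φ b : Set G)) :
    ∃ p, YY b p ∧ h * x * h⁻¹ = x * φ p := by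
  have S := U.toSSix
  have h1 := (mem_normalizer_iff.1 hh x).1 (x_mem_EB S b)
  obtain ⟨p, hp, h2 | h2⟩ := (mem_EB_iff S).1 h1
  · exact absurd h2 (U.disj p h)
  · exact ⟨p, hp, h2⟩

theorem orb_rot [Finite G] (S : SSix x φ) {b ρ : Perm (Fin 6)} (hb : BB b) (hρ : NY b ρ) {h : G} {p : Perm (Fin 6)}
    (hh : h ∈ normalizer (EB x φ b : Set G)) (hp : h * x * h⁻¹ = x * φ p) :
    φ ρ * h ∈ normalizer (EB x φ b : Set G) ∧ φ ρ * h * x * (φ ρ * h)⁻¹ = x * φ (ρ * p * ρ⁻¹) := by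
  refine ⟨mul_mem ((mem_norm_iff S hb (Or.inl rfl)).2 hρ) hh, ?_⟩
  calc φ ρ * h * x * (φ ρ * h)⁻¹ = φ ρ * (h * x * h⁻¹) * (φ ρ)⁻¹ := by group
    _ = x * φ (ρ * p * ρ⁻¹) := by rw [hp]; exact conj_xphi S (Or.inl rfl)

/-- data of case 3b: `n ∈ N(T)` swaps the two `E₁₆` -/
structure Sw (x : G) (φ : Perm (Fin 6) →* G) (n : G) : Prop where
  uni : Uni x φ
  hn : n ∈ normalizer (TT x φ : Set G)
  ae : MM x φ n a0 e0
  ea : MM x φ n e0 a0

namespace Sw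

variable {n : G}

/-- the subgroup of `N(T)` fixing both `E₁₆` -/
def P0 (x : G) (φ : Perm (Fin 6) →* G) : Subgroup G :=
  normalizer (TT x φ : Set G) ⊓ normalizer (EB x φ a0 : Set G)

theorem mem_P0_a {h : G} (hh : h ∈ normalizer (TT x φ : Set G)) (h1 : MM x φ h a0 a0) : h ∈ P0 x φ :=
  ⟨hh, MM_normalizer.1 h1⟩

theorem mem_P0_e (S : SSix x φ) {h : G} (hh : h ∈ normalizer (TT x φ : Set G)) (h1 : MM x φ h e0 e0) :
    h ∈ P0 x φ := by
  rcases MM_cases S hh with h2 | h2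
  · exact mem_P0_a hh h2.1
  · exact (MM.false' S h1 h2.2).elim

theorem mem_P0_b (S : SSix x φ) {b : Perm (Fin 6)} (hb : BB b) {h : G} (hh : h ∈ normalizer (TT x φ : Set G))
    (h1 : MM x φ h b b) : h ∈ P0 x φ := by
  rcases hb with rfl | rfl
  · exact mem_P0_a hh h1
  · exact mem_P0_e S hh h1

theorem P0_MM (S : SSix x φ) {b : Perm (Fin 6)} (hb : BB b) {h : G} (h1 : h ∈ P0 x φ) : MM x φ h b b := by
  rcases MM_cases S h1.1 with h2 | h2
  · rcases hb with rfl | rfl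
    · exact h2.1
    · exact h2.2
  · exact (MM.false S (MM_normalizer.2 h1.2) h2.1).elim

theorem T_le_P0 (S : SSix x φ) : TT x φ ≤ P0 x φ := fun _ ht => ⟨T_le ht, T_le_norm S (Or.inl rfl) ht⟩

theorem nP0 (W : Sw x φ n) : n ∉ P0 x φ := fun h => MM.false W.uni.toSSix (MM_normalizer.2 h.2) W.ae

theorem P0_or (W : Sw x φ n) {h : G} (hh : h ∈ normalizer (TT x φ : Set G)) : h ∈ P0 x φ ∨ n⁻¹ * h ∈ P0 x φ := by
  rcases MM_cases W.uni.toSSix hh with h2 | h2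
  · exact Or.inl (mem_P0_a hh h2.1)
  · exact Or.inr (mem_P0_a (mul_mem (inv_mem W.hn) hh) (W.ae.inv.mul h2.1))

theorem card_P0 [Finite G] (W : Sw x φ n) : Nat.card (P0 x φ) = 64 := by
  classical
  let P := normalizer (TT x φ : Set G)
  have hle : P0 x φ ≤ P := inf_le_left
  have hidx : ((P0 x φ).subgroupOf P).index = 2 := by
    rw [index_eq_two_iff]
    refine ⟨⟨n⁻¹, inv_mem W.hn⟩, ?_⟩
    rintro ⟨b, hb⟩
    rw [mem_subgroupOf, mem_subgroupOf]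
    show Xor (b * n⁻¹ ∈ P0 x φ) (b ∈ P0 x φ)
    have hn' : n⁻¹ ∉ P0 x φ := fun h => W.nP0 (by simpa using inv_mem h)
    by_cases h1 : b ∈ P0 x φ
    · right
      exact ⟨h1, fun h => hn' (by simpa using mul_mem (inv_mem h1) h)⟩
    · left
      refine ⟨?_, h1⟩
      rcases W.P0_or (inv_mem hb) with h2 | h2
      · exact absurd (by simpa using inv_mem h2) h1
      · have h3 := inv_mem h2
        rw [mul_inv_rev, inv_inv, inv_inv] at h3
        have h4 : n * n ∈ P0 x φ := mem_P0_a (mul_mem W.hn W.hn) (W.ea.mul W.ae)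
        have h5 : b * n⁻¹ = (b * n) * (n * n)⁻¹ := by group
        rw [h5]
        exact mul_mem h3 (inv_mem h4)
  have h := card_mul_index ((P0 x φ).subgroupOf P)
  rw [hidx, Nat.card_congr (subgroupOfEquivOfLe hle).toEquiv, card_P W.uni] at h
  omega

theorem P0_inf (S : SSix x φ) : P0 x φ ⊓ centralizer {x} = TT x φ := by
  apply le_antisymm
  · intro g hg
    rw [← P_inf S]
    exact ⟨hg.1.1, hg.2⟩
  · intro g hg
    exact ⟨T_le_P0 S hg, mem_centralizer_singleton_iff.2 (mem_TT.1 hg).1⟩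

/-- the element `g` of `P0 - T` -/
theorem exists_g [Finite G] (W : Sw x φ n) : ∃ (g : G) (s : Perm (Fin 6)), ZZ s ∧ s ≠ 1 ∧ g ∈ P0 x φ ∧
    g * x * g⁻¹ = x * φ s ∧ ∀ h ∈ P0 x φ, h * x * h⁻¹ = x ∨ h * x * h⁻¹ = x * φ s := by
  have S := W.uni.toSSix
  have h := Parity.card_orbit x (P0 x φ)
  rw [P0_inf S, S.card_TT, W.card_P0] at h
  have h2 : {d : G | ∃ h ∈ P0 x φ, h * x * h⁻¹ = d}.ncard = 2 := by omega
  obtain ⟨a, b, hab, h3⟩ := Set.ncard_eq_two.1 h2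
  have hx : x ∈ ({a, b} : Set G) := by
    rw [← h3]
    exact ⟨1, one_mem _, by group⟩
  have key : ∃ c, c ≠ x ∧ {d : G | ∃ h ∈ P0 x φ, h * x * h⁻¹ = d} = {x, c} := by
    rcases hx with rfl | hx
    · exact ⟨b, hab.symm, h3⟩
    · have : x = b := hx
      subst this
      exact ⟨a, hab, by rw [h3, Set.pair_comm]⟩
  obtain ⟨c, hc, h4⟩ := key
  have h5 : c ∈ {d : G | ∃ h ∈ P0 x φ, h * x * h⁻¹ = d} := by rw [h4]; simp
  obtain ⟨g, hg, hgc⟩ := h5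
  obtain ⟨s, hs, hs'⟩ := conj_x W.uni hg.1
  refine ⟨g, s, hs, ?_, hg, hs', ?_⟩
  · rintro rfl
    apply hc
    rw [← hgc, hs', map_one, mul_one]
  · intro h hh
    have h6 : h * x * h⁻¹ ∈ ({x, c} : Set G) := by
      rw [← h4]
      exact ⟨h, hh, rfl⟩
    rcases h6 with h6 | h6
    · exact Or.inl h6
    · right
      have h7 : h * x * h⁻¹ = c := h6
      rw [h7, ← hgc, hs']

theorem orb_ZZ [Finite G] (W : Sw x φ n) {s0 : Perm (Fin 6)}
    (hs0 : ∀ h ∈ P0 x φ, h * x * h⁻¹ = x ∨ h * x * h⁻¹ = x * φ s0) {b : Perm (Fin 6)} (hb : BB b) {h : G}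
    (hh : h ∈ normalizer (EB x φ b : Set G)) {s : Perm (Fin 6)} (hs : ZZ s) (h1 : h * x * h⁻¹ = x * φ s) :
    s = 1 ∨ s = s0 := by
  have S := W.uni.toSSix
  obtain ⟨m, hm, hm', h2⟩ := exists_norm S (T_le_norm S hb) hh (by
    intro t ht
    rw [h1]
    exact xphi_comm S hs ht)
  rw [h1] at h2
  rcases hs0 m (mem_P0_b S hb hm' (MM_normalizer.2 hm)) with h3 | h3
  · left
    apply S.mul_inj
    rw [← h2, h3, map_one, mul_one]
  · right
    apply S.mul_inj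
    rw [← h2, h3]

/-- the three rotated conditions -/
theorem orb_cond [Finite G] (W : Sw x φ n) {s0 : Perm (Fin 6)}
    (hs0 : ∀ h ∈ P0 x φ, h * x * h⁻¹ = x ∨ h * x * h⁻¹ = x * φ s0) {b ρ : Perm (Fin 6)} (hb : BB b) (hρ : NY b ρ)
    {h : G} (hh : h ∈ normalizer (EB x φ b : Set G)) {p : Perm (Fin 6)} (h1 : h * x * h⁻¹ = x * φ p) :
    (ZZ p → p = 1 ∨ p = s0) ∧ (ZZ (ρ * p * ρ⁻¹) → ρ * p * ρ⁻¹ = 1 ∨ ρ * p * ρ⁻¹ = s0) ∧
      (ZZ (ρ * (ρ * p * ρ⁻¹) * ρ⁻¹) → ρ * (ρ * p * ρ⁻¹) * ρ⁻¹ = 1 ∨ ρ * (ρ * p * ρ⁻¹) * ρ⁻¹ = s0) := by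
  have S := W.uni.toSSix
  obtain ⟨h2, h3⟩ := orb_rot S hb hρ hh h1
  obtain ⟨h4, h5⟩ := orb_rot S hb hρ h2 h3
  exact ⟨fun hz => W.orb_ZZ hs0 hb hh hz h1, fun hz => W.orb_ZZ hs0 hb h2 hz h3, fun hz => W.orb_ZZ hs0 hb h4 hz h5⟩

/-- the two orbits have the same length -/
theorem ncard_orb [Finite G] (W : Sw x φ n) : (Orb x φ a0).ncard = (Orb x φ e0).ncard := by
  have S := W.uni.toSSix
  have h1 := card_norm S (Or.inl rfl : BB a0)
  have h2 := card_norm S (Or.inr rfl : BB e0)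
  have h3 : Nat.card (normalizer (EB x φ a0 : Set G)) = Nat.card (normalizer (EB x φ e0 : Set G)) := by
    refine Nat.card_congr
      { toFun := fun h => ⟨n * h * n⁻¹, MM_normalizer.1 ((W.ae.mul (MM_normalizer.2 h.2)).mul W.ae.inv)⟩
        invFun := fun h => ⟨n⁻¹ * h * n⁻¹⁻¹, MM_normalizer.1 ((W.ae.inv.mul (MM_normalizer.2 h.2)).mul W.ae.inv.inv)⟩
        left_inv := fun h => Subtype.ext (by show n⁻¹ * (n * (h : G) * n⁻¹) * n⁻¹⁻¹ = h; group)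
        right_inv := fun h => Subtype.ext (by show n * (n⁻¹ * (h : G) * n⁻¹⁻¹) * n⁻¹ = h; group) }
  rw [h1, h2] at h3
  exact Nat.eq_of_mul_eq_mul_right (by norm_num) h3

theorem orb_le_two [Finite G] (W : Sw x φ n) {s0 : Perm (Fin 6)}
    (hs0 : ∀ h ∈ P0 x φ, h * x * h⁻¹ = x ∨ h * x * h⁻¹ = x * φ s0) {b ρ : Perm (Fin 6)} (hb : BB b) (hρ : NY b ρ)
    (hd : ∀ p : Perm (Fin 6), YY b p → ((ZZ p → p = 1 ∨ p = s0) ∧
      (ZZ (ρ * p * ρ⁻¹) → ρ * p * ρ⁻¹ = 1 ∨ ρ * p * ρ⁻¹ = s0) ∧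
      (ZZ (ρ * (ρ * p * ρ⁻¹) * ρ⁻¹) → ρ * (ρ * p * ρ⁻¹) * ρ⁻¹ = 1 ∨ ρ * (ρ * p * ρ⁻¹) * ρ⁻¹ = s0)) →
      p = 1 ∨ p = s0) : (Orb x φ b).ncard ≤ 2 := by
  have h1 : Orb x φ b ⊆ {x, x * φ s0} := by
    rintro _ ⟨h, hh, rfl⟩
    obtain ⟨p, hp, h2⟩ := orb_mem W.uni hh
    rcases hd p hp (W.orb_cond hs0 hb hρ hh h2) with rfl | rfl
    · left
      rw [h2, map_one, mul_one]
    · right
      exact h2
  calc (Orb x φ b).ncard ≤ ({x, x * φ s0} : Set G).ncard := Set.ncard_le_ncard h1 (Set.toFinite _)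
    _ ≤ ({x * φ s0} : Set G).ncard + 1 := Set.ncard_insert_le _ _
    _ = 2 := by rw [Set.ncard_singleton]

theorem three_le_orb [Finite G] (W : Sw x φ n) {g : G} {s0 : Perm (Fin 6)} (hg : g ∈ P0 x φ)
    (hgx : g * x * g⁻¹ = x * φ s0) {b ρ : Perm (Fin 6)} (hb : BB b) (hρ : NY b ρ)
    (h1 : s0 ≠ 1) (h2 : ρ * s0 * ρ⁻¹ ≠ 1) (h3 : ρ * s0 * ρ⁻¹ ≠ s0) : 3 ≤ (Orb x φ b).ncard := by
  have S := W.uni.toSSix
  have hg' : g ∈ normalizer (EB x φ b : Set G) := MM_normalizer.1 (P0_MM S hb hg)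
  obtain ⟨h4, h5⟩ := orb_rot S hb hρ hg' hgx
  have hsub : (fun p => x * φ p) '' ({1, s0, ρ * s0 * ρ⁻¹} : Set (Perm (Fin 6))) ⊆ Orb x φ b := by
    rintro _ ⟨p, hp, rfl⟩
    simp only [Set.mem_insert_iff, Set.mem_singleton_iff] at hp
    rcases hp with rfl | rfl | rfl
    · exact ⟨1, one_mem _, by show 1 * x * 1⁻¹ = x * φ 1; rw [map_one]; group⟩
    · exact ⟨g, hg', hgx⟩
    · exact ⟨_, h4, h5⟩
  have h6 : ({1, s0, ρ * s0 * ρ⁻¹} : Set (Perm (Fin 6))).ncard = 3 := by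
    rw [Set.ncard_eq_three]
    exact ⟨_, _, _, h1.symm, h2.symm, h3.symm, rfl⟩
  rw [← h6, ← Set.ncard_image_of_injective _ (fun p q (h : x * φ p = x * φ q) => S.mul_inj h)]
  exact Set.ncard_le_ncard hsub (Set.toFinite _)

set_option Elab.async false in
theorem dec1 : ∀ p : Perm (Fin 6), YY e0 p → ((ZZ p → p = 1 ∨ p = c1) ∧
      (ZZ (r1 * p * r1⁻¹) → r1 * p * r1⁻¹ = 1 ∨ r1 * p * r1⁻¹ = c1) ∧
      (ZZ (r1 * (r1 * p * r1⁻¹) * r1⁻¹) → r1 * (r1 * p * r1⁻¹) * r1⁻¹ = 1 ∨ r1 * (r1 * p * r1⁻¹) * r1⁻¹ = c1)) →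
      p = 1 ∨ p = c1 := by decide +kernel

set_option Elab.async false in
theorem dec2 : ∀ p : Perm (Fin 6), YY a0 p → ((ZZ p → p = 1 ∨ p = c3) ∧
      (ZZ (r2 * p * r2⁻¹) → r2 * p * r2⁻¹ = 1 ∨ r2 * p * r2⁻¹ = c3) ∧
      (ZZ (r2 * (r2 * p * r2⁻¹) * r2⁻¹) → r2 * (r2 * p * r2⁻¹) * r2⁻¹ = 1 ∨ r2 * (r2 * p * r2⁻¹) * r2⁻¹ = c3)) →
      p = 1 ∨ p = c3 := by decide +kernel

/-- `g x g⁻¹ = x φ(c₂)` -/
theorem exists_g2 [Finite G] (W : Sw x φ n) : ∃ g : G, g ∈ P0 x φ ∧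
    g * x * g⁻¹ = x * φ c2 ∧ ∀ h ∈ P0 x φ, h * x * h⁻¹ = x ∨ h * x * h⁻¹ = x * φ c2 := by
  obtain ⟨g, s, hs, hs1, hg, hgx, hP⟩ := W.exists_g
  have hn := W.ncard_orb
  rcases hs with rfl | rfl | rfl | rfl
  · exact absurd rfl hs1
  · exfalso
    have h1 := W.orb_le_two hP (Or.inr rfl : BB e0) NY_r1 dec1
    have h2 := W.three_le_orb hg hgx (Or.inl rfl : BB a0) NY_r2 (by decide) (by decide) (by decide)
    omega
  · exact ⟨g, hg, hgx, hP⟩
  · exfalso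
    have h1 := W.orb_le_two hP (Or.inl rfl : BB a0) NY_r2 dec2
    have h2 := W.three_le_orb hg hgx (Or.inr rfl : BB e0) NY_r1 (by decide) (by decide) (by decide)
    omega

end Sw

end Cfsg.Agent.OddHalf.D6.SixU.SwapA
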